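import Groth.Agent.Cohder.StupidGE
import Groth.Agent.Cohder.Telescope
import Mathlib.Algebra.Homology.HomotopyCategory.DegreewiseSplit
import Mathlib.Algebra.Homology.HomologicalComplexLimits
import Mathlib.CategoryTheory.Limits.Preserves.Shapes.Products

/-!
# A complex as a degreewise split telescope of its stupid truncations

For a complex `K` in an abelian category with exact sequential colimits, the short complex
`0 ⟶ ∐ σ_{≥ -n} K ⟶ ∐ σ_{≥ -n} K ⟶ K ⟶ 0` is degreewise split exact.  As a consequence a natural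
transformation between triangulated functors on `K(A)` is invertible on `K` as soon as it is on the
direct sum of the stupid truncations.
-/

set_option autoImplicit false
universe v u v' u'
open CategoryTheory CategoryTheory.Limits CategoryTheory.Pretriangulated

namespace K237.ColimSplit

section

variable {A : Type u} [Category.{v} A] {X P : A} {T : ℕ → A} (f : ∀ n, T n ⟶ T (n + 1))

/-- the universal property of the colimit of an eventually constant sequence. -/
lemma key_eq (a : ∀ n, T n ⟶ X) (ha : ∀ n, f n ≫ a (n + 1) = a n) (N : ℕ)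
    (hiso : ∀ n, N ≤ n → IsIso (a n)) {Z : A} (c : ∀ n, T n ⟶ Z)
    (hc : ∀ n, f n ≫ c (n + 1) = c n) :
    ∃ z : X ⟶ Z, ∀ n, a n ≫ z = c n := by
  have := hiso N le_rfl
  refine ⟨inv (a N) ≫ c N, ?_⟩
  have h1 : ∀ n, N ≤ n → a n ≫ inv (a N) ≫ c N = c n := by
    intro n hn
    induction n, hn using Nat.le_induction with
    | base => simp
    | succ n hn ih =>
      have i1 := hiso n hn
      have i2 := hiso (n + 1) (by lia)
      have i3 : IsIso (f n) := by
        have : IsIso (f n ≫ a (n + 1)) := by rw [ha n]; exact i1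
        exact IsIso.of_isIso_comp_right _ (a (n + 1))
      rw [← cancel_epi (f n), ← Category.assoc, ha n, ih, hc n]
  have h2 : ∀ (k n : ℕ), n + k = N → a n ≫ inv (a N) ≫ c N = c n := by
    intro k
    induction k with
    | zero => intro n hn; exact h1 n (by lia)
    | succ k ih =>
      intro n hn
      rw [← ha n, Category.assoc, ih (n + 1) (by lia), hc n]
  intro n
  by_cases hn : N ≤ n
  · exact h1 n hn
  · exact h2 (N - n) n (by lia)

variable [Abelian A] [HasColimitsOfShape ℕ A] [HasExactColimitsOfShape ℕ A]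

/-- The telescope of an eventually constant sequence is split. -/
theorem nonempty_splitting (a : ∀ n, T n ⟶ X) (ha : ∀ n, f n ≫ a (n + 1) = a n) (N : ℕ)
    (hiso : ∀ n, N ≤ n → IsIso (a n)) (ι : ∀ n, T n ⟶ P) (hP : IsColimit (Cofan.mk P ι))
    (g : P ⟶ P) (hg : ∀ n, ι n ≫ g = ι n - f n ≫ ι (n + 1)) (b : P ⟶ X)
    (hb : ∀ n, ι n ≫ b = a n) (w : g ≫ b = 0) :
    Nonempty (ShortComplex.mk g b w).Splitting := by
  have hT : HasCoproduct T := ⟨⟨_, hP⟩⟩
  let e : ∐ T ≅ P := (coproductIsCoproduct T).coconePointUniqueUpToIso hP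
  have he : ∀ n, Sigma.ι T n ≫ e.hom = ι n := fun n =>
    (coproductIsCoproduct T).comp_coconePointUniqueUpToIso_hom hP ⟨n⟩
  have hext : ∀ {Z : A} (x y : P ⟶ Z), (∀ n, ι n ≫ x = ι n ≫ y) → x = y := fun x y h =>
    Cofan.IsColimit.hom_ext hP _ _ h
  have hge : g = e.inv ≫ (𝟙 (∐ T) - DerLim.shiftMap T f) ≫ e.hom := by
    rw [← cancel_epi e.hom, Iso.hom_inv_id_assoc]
    apply Sigma.hom_ext
    intro n
    rw [← Category.assoc, he, hg, Preadditive.sub_comp, Preadditive.comp_sub, Category.id_comp, he,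
      DerLim.shiftMap, Sigma.ι_desc_assoc, Category.assoc, he]
  have hmono : Mono g := by
    have := Groth.Agent.Cohder.Telescope.mono_id_sub_shiftMap T f
    rw [hge]
    infer_instance
  have hN := hiso N le_rfl
  have hsec : (inv (a N) ≫ ι N) ≫ b = 𝟙 X := by
    rw [Category.assoc, hb, IsIso.inv_hom_id]
  have hepi : Epi b := epi_of_epi_fac hsec
  have hcok : IsColimit (CokernelCofork.ofπ b w) :=
    CokernelCofork.IsColimit.ofπ' _ _ (fun {Z} k hk => by
      have hc : ∀ n, f n ≫ ι (n + 1) ≫ k = ι n ≫ k := by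
        intro n
        have := ι n ≫= hk
        rw [reassoc_of% (hg n), Preadditive.sub_comp, comp_zero, sub_eq_zero, Category.assoc] at this
        exact this.symm
      refine ⟨(key_eq f a ha N hiso (fun n => ι n ≫ k) hc).choose, ?_⟩
      apply hext
      intro n
      rw [← Category.assoc, hb]
      exact (key_eq f a ha N hiso (fun n => ι n ≫ k) hc).choose_spec n)
  exact ⟨ShortComplex.Splitting.ofExactOfSection _ (ShortComplex.exact_of_g_is_cokernel _ hcok)
    (inv (a N) ≫ ι N) hsec hmono⟩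

end

section Complex

open Groth.Agent.Cohder.StupidGE

variable {A : Type u} [Category.{v} A] [Abelian A]

/-- maps to `K` from complexes concentrated in degrees `≥ m` factor through `σ_{≥ m} K`. -/
lemma exists_lift (K L : CochainComplex A ℤ) (m : ℤ) (hL : ∀ i, i < m → IsZero (L.X i)) (φ : L ⟶ K) :
    ∃ ψ : L ⟶ σ K m, ψ ≫ σι K m = φ := by
  classical
  let ψf : ∀ i, L.X i ⟶ (σ K m).X i := fun i => if h : m ≤ i then
    haveI := isIso_σι_f K m i h
    φ.f i ≫ inv ((σι K m).f i) else 0
  have hψ : ∀ i, ψf i ≫ (σι K m).f i = φ.f i := by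
    intro i
    by_cases h : m ≤ i
    · have := isIso_σι_f K m i h
      simp only [ψf, dif_pos h, Category.assoc, IsIso.inv_hom_id, Category.comp_id]
    · exact (hL i (by lia)).eq_of_src _ _
  refine ⟨{ f := ψf, comm' := ?_ }, ?_⟩
  · intro i j hij
    have := mono_σι_f K m j
    rw [← cancel_mono ((σι K m).f j), Category.assoc, Category.assoc, ← (σι K m).comm, hψ,
      reassoc_of% (hψ i), φ.comm]
  · ext i
    exact hψ i

/-- the sequence of stupid truncations. -/
noncomputable abbrev tr (K : CochainComplex A ℤ) (n : ℕ) : CochainComplex A ℤ := σ K (-(n : ℤ))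

/-- the transition maps. -/
noncomputable def trMap (K : CochainComplex A ℤ) (n : ℕ) : tr K n ⟶ tr K (n + 1) :=
  (exists_lift K (tr K n) (-((n + 1 : ℕ) : ℤ)) (fun i hi => isZero_σ_X K _ i (by push_cast at hi; lia))
    (σι K _)).choose

@[reassoc]
lemma trMap_σι (K : CochainComplex A ℤ) (n : ℕ) : trMap K n ≫ σι K (-((n + 1 : ℕ) : ℤ)) =
    σι K (-(n : ℤ)) :=
  (exists_lift K (tr K n) (-((n + 1 : ℕ) : ℤ)) (fun i hi => isZero_σ_X K _ i (by push_cast at hi; lia))
    (σι K _)).choose_spec

variable [HasCoproductsOfShape ℕ A] (K : CochainComplex A ℤ)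

/-- `1 - shift`. -/
noncomputable def telG : (∐ tr K) ⟶ ∐ tr K :=
  Sigma.desc (fun n => Sigma.ι (tr K) n - trMap K n ≫ Sigma.ι (tr K) (n + 1))

/-- the map to `K` -/
noncomputable def telB : (∐ tr K) ⟶ K := Sigma.desc (fun n => σι K (-(n : ℤ)))

lemma telG_telB : telG K ≫ telB K = 0 := by
  apply Sigma.hom_ext
  intro n
  rw [telG, telB, Sigma.ι_desc_assoc, Preadditive.sub_comp, Category.assoc, Sigma.ι_desc,
    Sigma.ι_desc, trMap_σι, sub_self, comp_zero]

/-- the telescope. -/
noncomputable abbrev telS : ShortComplex (CochainComplex A ℤ) := ShortComplex.mk _ _ (telG_telB K)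

variable [HasColimitsOfShape ℕ A] [HasExactColimitsOfShape ℕ A]

theorem nonempty_splitting_tel (i : ℤ) :
    Nonempty ((telS K).map (HomologicalComplex.eval A (ComplexShape.up ℤ) i)).Splitting := by
  let ev := HomologicalComplex.eval A (ComplexShape.up ℤ) i
  have hP : IsColimit (Cofan.mk (ev.obj (∐ tr K)) (fun n => ev.map (Sigma.ι (tr K) n))) :=
    isColimitCofanMkObjOfIsColimit ev (tr K) _ (coproductIsCoproduct (tr K))
  refine nonempty_splitting (fun n => ev.map (trMap K n)) (fun n => ev.map (σι K (-(n : ℤ)))) ?_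
    (-i).toNat ?_ (fun n => ev.map (Sigma.ι (tr K) n)) hP (ev.map (telG K)) ?_ (ev.map (telB K)) ?_
    (by rw [← Functor.map_comp, telG_telB, Functor.map_zero])
  · intro n
    rw [← Functor.map_comp, trMap_σι]
  · intro n hn
    exact isIso_σι_f K _ i (by lia)
  · intro n
    rw [← Functor.map_comp, telG, Sigma.ι_desc, Functor.map_sub, Functor.map_comp]
  · intro n
    rw [← Functor.map_comp, telB, Sigma.ι_desc]

/-- the distinguished triangle of the telescope. -/
theorem exists_distTriang : ∃ δ : (HomotopyCategory.quotient A (ComplexShape.up ℤ)).obj K ⟶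
    ((HomotopyCategory.quotient A (ComplexShape.up ℤ)).obj (∐ tr K))⟦(1 : ℤ)⟧,
    Triangle.mk ((HomotopyCategory.quotient A (ComplexShape.up ℤ)).map (telG K))
      ((HomotopyCategory.quotient A (ComplexShape.up ℤ)).map (telB K)) δ ∈
      distTriang (HomotopyCategory A (ComplexShape.up ℤ)) := by
  let s : ∀ i, ((telS K).map (HomologicalComplex.eval A (ComplexShape.up ℤ) i)).Splitting :=
    fun i => (nonempty_splitting_tel K i).some
  exact ⟨(CochainComplex.trianglehOfDegreewiseSplit (telS K) s).mor₃,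
    (HomotopyCategory.distinguished_iff_iso_trianglehOfDegreewiseSplit _).2
      ⟨telS K, s, ⟨Iso.refl _⟩⟩⟩

end Complex

section NatTrans

variable {C : Type u} [Category.{v} C] [Preadditive C] [HasZeroObject C] [HasShift C ℤ]
  [∀ n : ℤ, (shiftFunctor C n).Additive] [Pretriangulated C]
  {D : Type u'} [Category.{v'} D] [Preadditive D] [HasZeroObject D] [HasShift D ℤ]
  [∀ n : ℤ, (shiftFunctor D n).Additive] [Pretriangulated D]

/-- two out of three for invertibility of natural transformations of triangulated functors. -/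
theorem isIso_app₃ {Φ Ψ : C ⥤ D} [Φ.CommShift ℤ] [Ψ.CommShift ℤ] [Φ.IsTriangulated]
    [Ψ.IsTriangulated] (η : Φ ⟶ Ψ) [NatTrans.CommShift η ℤ] (T : Triangle C)
    (hT : T ∈ distTriang C) (h₁ : IsIso (η.app T.obj₁)) (h₂ : IsIso (η.app T.obj₂)) :
    IsIso (η.app T.obj₃) := by
  let φ : Φ.mapTriangle.obj T ⟶ Ψ.mapTriangle.obj T :=
    { hom₁ := η.app T.obj₁
      hom₂ := η.app T.obj₂
      hom₃ := η.app T.obj₃
      comm₁ := η.naturality _
      comm₂ := η.naturality _
      comm₃ := by
        change (Φ.map T.mor₃ ≫ (Φ.commShiftIso (1 : ℤ)).hom.app T.obj₁) ≫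
          (shiftFunctor D (1 : ℤ)).map (η.app T.obj₁) =
          η.app T.obj₃ ≫ Ψ.map T.mor₃ ≫ (Ψ.commShiftIso (1 : ℤ)).hom.app T.obj₁
        rw [Category.assoc, NatTrans.shift_app_comm, ← Category.assoc, η.naturality,
          Category.assoc] }
  exact isIso₃_of_isIso₁₂ φ (Φ.map_distinguished _ hT) (Ψ.map_distinguished _ hT) h₁ h₂

end NatTrans

end K237.ColimSplit
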