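import Mathlib.CategoryTheory.Triangulated.TStructure.TruncLTGE
import Mathlib.CategoryTheory.Idempotents.Basic
import Mathlib.Tactic.Ring

/-!
# Splitting idempotents in triangulated categories

If an idempotent endomorphism of a distinguished triangle splits on the first and third objects, it
splits on the second.  Idempotents on bounded objects (for a t-structure) split.
-/

set_option autoImplicit false
universe v u
open CategoryTheory CategoryTheory.Limits CategoryTheory.Pretriangulated CategoryTheory.Triangulated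

namespace K237.IdemSplit

variable {C : Type u} [Category.{v} C]

/-- An endomorphism which is a split idempotent. -/
def Splits {X : C} (p : X ⟶ X) : Prop :=
  ∃ (Y : C) (i : Y ⟶ X) (e : X ⟶ Y), i ≫ e = 𝟙 Y ∧ e ≫ i = p

lemma Splits.idem {X : C} {p : X ⟶ X} (h : Splits p) : p ≫ p = p := by
  obtain ⟨Y, i, e, h1, rfl⟩ := h
  rw [Category.assoc, reassoc_of% h1]

lemma splits_of_conj {X : C} {p q : X ⟶ X} (hq : Splits q)
    (h₁ : p ≫ q ≫ p = p) (h₂ : q ≫ p ≫ q = q) (hp : p ≫ p = p) : Splits p := by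
  obtain ⟨Y, i, e, h, rfl⟩ := hq
  refine ⟨Y, i ≫ p, p ≫ e, ?_, ?_⟩
  · have h3 : e ≫ (i ≫ p ≫ e) ≫ i = e ≫ i := by simpa using h₂
    have h4 : (i ≫ p ≫ e) = 𝟙 Y := by
      have h5 : (i ≫ e) ≫ (i ≫ p ≫ e) ≫ (i ≫ e) = (i ≫ e) ≫ (i ≫ e) := by
        have := congrArg (fun z => i ≫ z ≫ e) h3
        simpa using this
      simpa [h] using h5
    rw [Category.assoc, reassoc_of% hp, h4]
  · rw [Category.assoc]
    simpa using h₁

section Preadditive

variable [Preadditive C]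

lemma splits_of_sub_sq {X : C} {p q : X ⟶ X} (hq : Splits q) (hp : p ≫ p = p)
    (h : (p - q) ≫ (p - q) = 0) : Splits p := by
  have hq' := hq.idem
  have h0 : p ≫ q + q ≫ p = p + q := by
    have h1 : (p - q) ≫ (p - q) = p ≫ p - p ≫ q - (q ≫ p - q ≫ q) := by
      simp only [Preadditive.sub_comp, Preadditive.comp_sub]
      abel
    rw [h1, hp, hq'] at h
    have h2 : p - p ≫ q - (q ≫ p - q) + (p ≫ q + q ≫ p) = p + q := by abel
    rw [h, zero_add] at h2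
    exact h2
  have h1 : p ≫ q ≫ p = p := by
    have h3 : p ≫ (p ≫ q + q ≫ p) ≫ p = p ≫ (p + q) ≫ p := by rw [h0]
    simp only [Preadditive.add_comp, Preadditive.comp_add, Category.assoc, reassoc_of% hp, hp] at h3
    exact add_right_cancel h3
  have h2 : q ≫ p ≫ q = q := by
    have h3 : q ≫ (p ≫ q + q ≫ p) ≫ q = q ≫ (p + q) ≫ q := by rw [h0]
    simp only [Preadditive.add_comp, Preadditive.comp_add, Category.assoc, reassoc_of% hq', hq'] at h3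
    exact add_left_cancel (h3.trans (add_comm _ _ |>.symm.trans (add_comm _ _)))
  exact splits_of_conj hq h1 h2 hp

variable [HasZeroObject C] [HasShift C ℤ] [∀ n : ℤ, (shiftFunctor C n).Additive]
  [Pretriangulated C]

/-- An idempotent endomorphism of a distinguished triangle which splits on the outer terms splits
on the middle term. -/
theorem splits_hom₂ {T : Triangle C} (hT : T ∈ distTriang C) (e : T ⟶ T) (h₁ : Splits e.hom₁)
    (h₃ : Splits e.hom₃) (h₂ : e.hom₂ ≫ e.hom₂ = e.hom₂) : Splits e.hom₂ := by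
  obtain ⟨X₁, i₁, r₁, hir₁, hri₁⟩ := h₁
  obtain ⟨Z₁, i₃, r₃, hir₃, hri₃⟩ := h₃
  have hi₃ : i₃ ≫ e.hom₃ = i₃ := by rw [← hri₃, reassoc_of% hir₃]
  have hr₁ : e.hom₁ ≫ r₁ = r₁ := by rw [← hri₁, Category.assoc, hir₁, Category.comp_id]
  let δ₁ : Z₁ ⟶ X₁⟦(1 : ℤ)⟧ := i₃ ≫ T.mor₃ ≫ r₁⟦(1 : ℤ)⟧'
  obtain ⟨Y₁, f₁, g₁, hT₁⟩ := distinguished_cocone_triangle₂ δ₁
  have c₁ : δ₁ ≫ i₁⟦(1 : ℤ)⟧' = i₃ ≫ T.mor₃ := by
    have := e.comm₃
    simp only [δ₁, Category.assoc, ← Functor.map_comp, hri₁]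
    rw [this, reassoc_of% hi₃]
  have c₂ : T.mor₃ ≫ r₁⟦(1 : ℤ)⟧' = r₃ ≫ δ₁ := by
    have := e.comm₃
    simp only [δ₁]
    rw [reassoc_of% hri₃, ← reassoc_of% this, ← Functor.map_comp, hr₁]
  obtain ⟨i₂, hi₂, hi₂'⟩ : ∃ i₂ : Y₁ ⟶ T.obj₂, f₁ ≫ i₂ = i₁ ≫ T.mor₁ ∧ g₁ ≫ i₃ = i₂ ≫ T.mor₂ :=
    complete_distinguished_triangle_morphism₂ (Triangle.mk f₁ g₁ δ₁) T hT₁ hT i₁ i₃ c₁
  obtain ⟨r₂, hr₂, hr₂'⟩ : ∃ r₂ : T.obj₂ ⟶ Y₁, T.mor₁ ≫ r₂ = r₁ ≫ f₁ ∧ T.mor₂ ≫ r₃ = r₂ ≫ g₁ :=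
    complete_distinguished_triangle_morphism₂ T (Triangle.mk f₁ g₁ δ₁) hT hT₁ r₁ r₃ c₂
  let φ : Triangle.mk f₁ g₁ δ₁ ⟶ Triangle.mk f₁ g₁ δ₁ :=
    { hom₁ := 𝟙 _
      hom₂ := i₂ ≫ r₂
      hom₃ := 𝟙 _
      comm₁ := by
        have h1 : f₁ ≫ i₂ = i₁ ≫ T.mor₁ := hi₂
        have h2 : T.mor₁ ≫ r₂ = r₁ ≫ f₁ := hr₂
        change f₁ ≫ i₂ ≫ r₂ = 𝟙 _ ≫ f₁
        rw [reassoc_of% h1, h2, reassoc_of% hir₁, Category.id_comp]
      comm₂ := by
        have h1 : g₁ ≫ i₃ = i₂ ≫ T.mor₂ := hi₂'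
        have h2 : T.mor₂ ≫ r₃ = r₂ ≫ g₁ := hr₂'
        change g₁ ≫ 𝟙 _ = (i₂ ≫ r₂) ≫ g₁
        rw [Category.assoc, ← h2, ← reassoc_of% h1, hir₃]
      comm₃ := by
        change δ₁ ≫ (𝟙 _)⟦(1 : ℤ)⟧' = 𝟙 _ ≫ δ₁
        rw [CategoryTheory.Functor.map_id, Category.comp_id, Category.id_comp] }
  have hφ : IsIso (i₂ ≫ r₂) :=
    isIso₂_of_isIso₁₃ φ hT₁ hT₁ (by dsimp [φ]; infer_instance) (by dsimp [φ]; infer_instance)
  -- the modified idempotent
  let q : T.obj₂ ⟶ T.obj₂ := r₂ ≫ inv (i₂ ≫ r₂) ≫ i₂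
  have hq : Splits q := ⟨Y₁, i₂, r₂ ≫ inv (i₂ ≫ r₂), by
    rw [← Category.assoc, IsIso.hom_inv_id], by simp [q]⟩
  have hfq : T.mor₁ ≫ q = T.mor₁ ≫ e.hom₂ := by
    have h1 : f₁ ≫ i₂ = i₁ ≫ T.mor₁ := hi₂
    have h2 : T.mor₁ ≫ r₂ = r₁ ≫ f₁ := hr₂
    have h3 : f₁ ≫ inv (i₂ ≫ r₂) = f₁ := by
      rw [IsIso.comp_inv_eq]
      have : f₁ ≫ i₂ ≫ r₂ = 𝟙 _ ≫ f₁ := φ.comm₁
      rw [this, Category.id_comp]
    simp only [q]
    rw [reassoc_of% h2, reassoc_of% h3, h1, reassoc_of% hri₁, ← e.comm₁]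
  have hqg : q ≫ T.mor₂ = e.hom₂ ≫ T.mor₂ := by
    have h1 : g₁ ≫ i₃ = i₂ ≫ T.mor₂ := hi₂'
    have h2 : T.mor₂ ≫ r₃ = r₂ ≫ g₁ := hr₂'
    have h3 : inv (i₂ ≫ r₂) ≫ g₁ = g₁ := by
      rw [IsIso.inv_comp_eq]
      have : g₁ ≫ 𝟙 _ = (i₂ ≫ r₂) ≫ g₁ := φ.comm₂
      rw [← this, Category.comp_id]
    simp only [q, Category.assoc]
    rw [← h1, reassoc_of% h3, ← reassoc_of% h2, hri₃, e.comm₂]
  apply splits_of_sub_sq hq h₂
  have hfn : T.mor₁ ≫ (e.hom₂ - q) = 0 := by rw [Preadditive.comp_sub, hfq, sub_self]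
  have hng : (e.hom₂ - q) ≫ T.mor₂ = 0 := by rw [Preadditive.sub_comp, hqg, sub_self]
  obtain ⟨m, hm⟩ := Triangle.yoneda_exact₂ _ hT _ hfn
  nth_rewrite 2 [hm]
  rw [reassoc_of% hng, zero_comp]

variable (t : TStructure C)

/-- Idempotents on objects concentrated in one degree split. -/
theorem splits_of_isLE_of_isGE (X : C) (n : ℤ) [t.IsLE X n] [t.IsGE X n] (p : X ⟶ X)
    (hp : p ≫ p = p) : Splits p := by
  obtain ⟨W, w, b, hT⟩ := distinguished_cocone_triangle₁ (𝟙 X - p)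
  have hT' := inv_rot_of_distTriang _ hT
  have hW : t.IsGE W n := by
    refine t.isGE₂ _ hT' n ?_ ?_
    · have : t.IsGE (X⟦(-1 : ℤ)⟧) (n + 1) := t.isGE_shift X n (-1) (n + 1) (by lia)
      exact t.isGE_of_ge (X⟦(-1 : ℤ)⟧) n (n + 1) (by lia)
    · exact (inferInstance : t.IsGE X n)
  have hpw : p ≫ (𝟙 X - p) = 0 := by rw [Preadditive.comp_sub, Category.comp_id, hp, sub_self]
  obtain ⟨q, hq⟩ : ∃ q : X ⟶ W, p = q ≫ w := Triangle.coyoneda_exact₂ _ hT p hpw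
  have hw : w ≫ (𝟙 X - p) = 0 := comp_distTriang_mor_zero₁₂ _ hT
  let r : X ⟶ (t.truncLT (n + 1)).obj W := t.liftTruncLT q n (n + 1) rfl
  have hr : r ≫ (t.truncLTι (n + 1)).app W = q := t.liftTruncLT_ι q n (n + 1) rfl
  let i : (t.truncLT (n + 1)).obj W ⟶ X := (t.truncLTι (n + 1)).app W ≫ w
  have hip : i ≫ p = i := by
    have : i ≫ (𝟙 X - p) = 0 := by
      simp only [i, Category.assoc]
      erw [hw]
      rw [comp_zero]
    rw [Preadditive.comp_sub, Category.comp_id, sub_eq_zero] at this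
    exact this.symm
  have hri : r ≫ i = p := by
    simp only [i]
    rw [reassoc_of% hr, ← hq]
  refine ⟨_, i, r, ?_, hri⟩
  rw [← sub_eq_zero]
  apply t.to_truncLT_obj_ext
  have h1 : ((i ≫ r - 𝟙 _) ≫ (t.truncLTι (n + 1)).app W) ≫ w = 0 := by
    rw [Category.assoc, Preadditive.sub_comp, Category.assoc, Category.id_comp]
    change i ≫ r ≫ i - i = 0
    rw [hri, hip, sub_self]
  obtain ⟨s, hs⟩ := Triangle.coyoneda_exact₂ _ hT' _ h1
  have hs0 : s = 0 := by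
    have h2 : t.IsGE (X⟦(-1 : ℤ)⟧) (n + 1) := t.isGE_shift X n (-1) (n + 1) (by lia)
    exact t.zero_of_isLE_of_isGE s n (n + 1) (by lia) inferInstance h2
  rw [hs0, zero_comp] at hs
  rw [zero_comp]
  exact hs

variable [IsTriangulated C]

/-- Idempotents on bounded objects split. -/
theorem splits_of_bounded (k : ℕ) : ∀ (X : C) (a : ℤ) (_ : t.IsGE X a) (_ : t.IsLE X (a + k))
    (p : X ⟶ X) (_ : p ≫ p = p), Splits p := by
  induction k with
  | zero =>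
    intro X a h1 h2 p hp
    have h2' : t.IsLE X a := by simpa using h2
    exact splits_of_isLE_of_isGE t X a p hp
  | succ k ih =>
    intro X a h1 h2 p hp
    have hT := t.triangleLTGE_distinguished (a + k + 1) X
    refine splits_hom₂ hT ((t.triangleLTGE (a + k + 1)).map p) ?_ ?_ hp
    · change Splits ((t.truncLT (a + k + 1)).map p)
      refine ih _ a inferInstance inferInstance _ ?_
      rw [← Functor.map_comp, hp]
    · change Splits ((t.truncGE (a + k + 1)).map p)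
      have h3 : t.IsLE X (a + k + 1) := by
        have e : a + ((k + 1 : ℕ) : ℤ) = a + k + 1 := by push_cast; ring
        rwa [e] at h2
      exact splits_of_isLE_of_isGE t _ (a + k + 1) _ (by rw [← Functor.map_comp, hp])

theorem isIdempotentComplete (hb : ∀ X : C, t.bounded X) : IsIdempotentComplete C where
  idempotents_split X p hp := by
    obtain ⟨⟨a, ha⟩, ⟨b, hb⟩⟩ := hb X
    have hb' : t.IsLE X (a + (b - a).toNat) := t.isLE_of_le X b _ (by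
      have := Int.self_le_toNat (b - a); lia)
    exact splits_of_bounded t _ X a ha hb' p hp

end Preadditive

end K237.IdemSplit
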