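import Mathlib.Algebra.Homology.DerivedCategory.Plus
import Mathlib.Algebra.Homology.DerivedCategory.ShortExact
import Mathlib.CategoryTheory.Abelian.Exact

/-!
# The distinguished triangle in `D^+` of a short exact sequence of bounded below complexes
-/

set_option autoImplicit false
universe w v u
open CategoryTheory CategoryTheory.Limits CategoryTheory.Pretriangulated

namespace K237.SESPlus

variable {C : Type u} [Category.{v} C] [Abelian C] [HasDerivedCategory.{w} C]

/-- A triangle with given first two maps exists once its image in `D` is isomorphic to a distinguished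
triangle. -/
theorem exists_triangle {X₁ X₂ X₃ : DerivedCategory.Plus C} (f : X₁ ⟶ X₂) (g : X₂ ⟶ X₃)
    (T : Triangle (DerivedCategory C)) (hT : T ∈ distTriang (DerivedCategory C))
    (e₁ : DerivedCategory.Plus.ι.obj X₁ ≅ T.obj₁) (e₂ : DerivedCategory.Plus.ι.obj X₂ ≅ T.obj₂)
    (e₃ : DerivedCategory.Plus.ι.obj X₃ ≅ T.obj₃)
    (h₁ : DerivedCategory.Plus.ι.map f ≫ e₂.hom = e₁.hom ≫ T.mor₁)
    (h₂ : DerivedCategory.Plus.ι.map g ≫ e₃.hom = e₂.hom ≫ T.mor₂) :
    ∃ h : X₃ ⟶ X₁⟦(1 : ℤ)⟧, Triangle.mk f g h ∈ distTriang (DerivedCategory.Plus C) := by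
  let h₀ : DerivedCategory.Plus.ι.obj X₃ ⟶ DerivedCategory.Plus.ι.obj (X₁⟦(1 : ℤ)⟧) :=
    e₃.hom ≫ T.mor₃ ≫ e₁.inv⟦(1 : ℤ)⟧' ≫
      (DerivedCategory.Plus.ι.commShiftIso (1 : ℤ)).inv.app X₁
  obtain ⟨h, hh⟩ := DerivedCategory.Plus.ι.map_surjective h₀
  refine ⟨h, ?_⟩
  change DerivedCategory.Plus.ι.mapTriangle.obj (Triangle.mk f g h) ∈ distTriang (DerivedCategory C)
  refine isomorphic_distinguished _ hT _ (Triangle.isoMk _ _ e₁ e₂ e₃ h₁ h₂ ?_)
  change (DerivedCategory.Plus.ι.map h ≫ (DerivedCategory.Plus.ι.commShiftIso (1 : ℤ)).hom.app X₁) ≫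
    (shiftFunctor (DerivedCategory C) (1 : ℤ)).map e₁.hom = e₃.hom ≫ T.mor₃
  rw [hh]
  simp only [h₀, Category.assoc]
  rw [Iso.inv_hom_id_app_assoc, ← Functor.map_comp, Iso.inv_hom_id, CategoryTheory.Functor.map_id,
    Category.comp_id]

/-- The distinguished triangle in `D^+` attached to a short exact sequence of bounded below
complexes. -/
theorem exists_distTriang {X₁ X₂ X₃ : CochainComplex.Plus C} (f : X₁ ⟶ X₂) (g : X₂ ⟶ X₃)
    (zero : (CochainComplex.Plus.ι C).map f ≫ (CochainComplex.Plus.ι C).map g = 0)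
    (hS : (ShortComplex.mk _ _ zero).ShortExact) :
    ∃ h : DerivedCategory.Plus.Qh.obj ((HomotopyCategory.Plus.quotient C).obj X₃) ⟶
        (DerivedCategory.Plus.Qh.obj ((HomotopyCategory.Plus.quotient C).obj X₁))⟦(1 : ℤ)⟧,
      Triangle.mk (DerivedCategory.Plus.Qh.map ((HomotopyCategory.Plus.quotient C).map f))
        (DerivedCategory.Plus.Qh.map ((HomotopyCategory.Plus.quotient C).map g)) h ∈
        distTriang (DerivedCategory.Plus C) :=
  exists_triangle _ _ _ (DerivedCategory.triangleOfSES_distinguished hS)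
    ((DerivedCategory.quotientCompQhIso C).app _) ((DerivedCategory.quotientCompQhIso C).app _)
    ((DerivedCategory.quotientCompQhIso C).app _)
    ((DerivedCategory.quotientCompQhIso C).hom.naturality ((CochainComplex.Plus.ι C).map f))
    ((DerivedCategory.quotientCompQhIso C).hom.naturality ((CochainComplex.Plus.ι C).map g))

end K237.SESPlus
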